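import Cfsg.Agent.ThIndex62.Hold
import Cfsg.Agent.ThIndex62.Check.Node0
import Cfsg.Agent.ThIndex62.Check.Node1
import Cfsg.Agent.ThIndex62.Check.Node2
import Cfsg.Agent.ThIndex62.Check.Node3
import Cfsg.Agent.ThIndex62.Check.Node4
import Cfsg.Agent.ThIndex62.Check.Node5
import Cfsg.Agent.ThIndex62.Check.Node6
import Cfsg.Agent.ThIndex62.Check.Node7
import Cfsg.Agent.ThIndex62.Check.Node8
import Cfsg.Agent.ThIndex62.Check.Node9
import Cfsg.Agent.ThIndex62.Check.Node10
import Cfsg.Agent.Th34.SuborbitSimple

/-!
The index of `⟨a, b, c, d, e, s, t⟩` in the presented Thompson group is at most 143127000.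
-/

set_option autoImplicit false
set_option maxRecDepth 100000

namespace CfsgLib.ThIndex62

open CfsgLib.ThModel83 Cfsg.Spor

/-- lower bounds for the stabilisers of the nodes -/
def kLow : ℕ → ℕ
  | 0 => 634023936
  | 1 => 36864
  | 2 => 13824
  | 3 => 288
  | 4 => 486
  | 5 => 6
  | 6 => 54
  | 7 => 126
  | 8 => 78
  | 9 => 72
  | 10 => 3528
  | _ => 1

theorem card_R : Nat.card R = 634023936 :=
  haveI := finite_R ThCent69.boundHyp
  le_antisymm (card_R_le ThCent69.boundHyp) card_R_ge

theorem stab_ge : ∀ a ∈ live,
    kLow a ≤ Nat.card (DCert22.stab theModel Th34.H Data.cert a) ∧ 0 < kLow a := by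
  haveI := finite_R ThCent69.boundHyp
  intro a ha
  simp only [live, List.mem_cons, List.not_mem_nil, or_false] at ha
  rcases ha with rfl | rfl | rfl | rfl | rfl | rfl | rfl | rfl | rfl | rfl | rfl
  · refine ⟨?_, by decide⟩
    have h : DCert22.stab theModel Th34.H Data.cert 0 = ⊤ := by
      rw [eq_top_iff]
      intro k _
      show (1 : Cfsg.Spor.Th) * hom ThCent69.boundHyp k * 1⁻¹ ∈ Th34.H
      rw [one_mul, inv_one, mul_one]
      exact hom_range ThCent69.boundHyp ▸ MonoidHom.mem_range.2 ⟨k, rfl⟩
    rw [h, Subgroup.card_top, card_R]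
    exact le_rfl
  · refine ⟨?_, by decide⟩
    rw [show kLow 1 = chainSize Data.n1lvls from size1_ok.symm]
    refine card_stab_ge allHold (is := Data.kg1) chain1_ok fun K hK => ?_
    simp only [Data.n1lvls, List.head?_cons, Option.mem_def, Option.some.injEq] at hK
    exact hK ▸ fix1_ok
  · refine ⟨?_, by decide⟩
    rw [show kLow 2 = chainSize Data.n2lvls from size2_ok.symm]
    refine card_stab_ge allHold (is := Data.kg2) chain2_ok fun K hK => ?_
    simp only [Data.n2lvls, List.head?_cons, Option.mem_def, Option.some.injEq] at hK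
    exact hK ▸ fix2_ok
  · refine ⟨?_, by decide⟩
    rw [show kLow 3 = chainSize Data.n3lvls from size3_ok.symm]
    refine card_stab_ge allHold (is := Data.kg3) chain3_ok fun K hK => ?_
    simp only [Data.n3lvls, List.head?_cons, Option.mem_def, Option.some.injEq] at hK
    exact hK ▸ fix3_ok
  · refine ⟨?_, by decide⟩
    rw [show kLow 4 = chainSize Data.n4lvls from size4_ok.symm]
    refine card_stab_ge allHold (is := Data.kg4) chain4_ok fun K hK => ?_
    simp only [Data.n4lvls, List.head?_cons, Option.mem_def, Option.some.injEq] at hK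
    exact hK ▸ fix4_ok
  · refine ⟨?_, by decide⟩
    rw [show kLow 5 = chainSize Data.n5lvls from size5_ok.symm]
    refine card_stab_ge allHold (is := Data.kg5) chain5_ok fun K hK => ?_
    simp only [Data.n5lvls, List.head?_cons, Option.mem_def, Option.some.injEq] at hK
    exact hK ▸ fix5_ok
  · refine ⟨?_, by decide⟩
    rw [show kLow 6 = chainSize Data.n6lvls from size6_ok.symm]
    refine card_stab_ge allHold (is := Data.kg6) chain6_ok fun K hK => ?_
    simp only [Data.n6lvls, List.head?_cons, Option.mem_def, Option.some.injEq] at hK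
    exact hK ▸ fix6_ok
  · refine ⟨?_, by decide⟩
    rw [show kLow 7 = chainSize Data.n7lvls from size7_ok.symm]
    refine card_stab_ge allHold (is := Data.kg7) chain7_ok fun K hK => ?_
    simp only [Data.n7lvls, List.head?_cons, Option.mem_def, Option.some.injEq] at hK
    exact hK ▸ fix7_ok
  · refine ⟨?_, by decide⟩
    rw [show kLow 8 = chainSize Data.n8lvls from size8_ok.symm]
    refine card_stab_ge allHold (is := Data.kg8) chain8_ok fun K hK => ?_
    simp only [Data.n8lvls, List.head?_cons, Option.mem_def, Option.some.injEq] at hK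
    exact hK ▸ fix8_ok
  · refine ⟨?_, by decide⟩
    rw [show kLow 9 = chainSize Data.n9lvls from size9_ok.symm]
    refine card_stab_ge allHold (is := Data.kg9) chain9_ok fun K hK => ?_
    simp only [Data.n9lvls, List.head?_cons, Option.mem_def, Option.some.injEq] at hK
    exact hK ▸ fix9_ok
  · refine ⟨?_, by decide⟩
    rw [show kLow 10 = chainSize Data.n10lvls from size10_ok.symm]
    refine card_stab_ge allHold (is := Data.kg10) chain10_ok fun K hK => ?_
    simp only [Data.n10lvls, List.head?_cons, Option.mem_def, Option.some.injEq] at hK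
    exact hK ▸ fix10_ok

theorem covered : ∀ w, DCert22.Covered theModel Th34.H Data.cert live w := by
  obtain ⟨hD, hall, hrep⟩ := stab_facts
  refine DCert22.covered_all theModel (by decide) ?_ ?_
  · rw [eq_top_iff, ← Th34.closure_gens, Subgroup.closure_le]
    rintro _ ⟨x, rfl⟩
    by_cases hx : x = .u
    · subst hx
      exact Subgroup.mem_sup_right (Subgroup.subset_closure rfl)
    · exact Subgroup.mem_sup_left (show Th34.g x ∈ theModel.hom.range from
        (hom_range ThCent69.boundHyp).symm ▸ Th34.g_mem_H hx)
  · intro a ha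
    simp only [live, List.mem_cons, List.not_mem_nil, or_false] at ha
    rcases ha with rfl | rfl | rfl | rfl | rfl | rfl | rfl | rfl | rfl | rfl | rfl
    · exact node_good allHold base_ok hD hall hrep node0_ok
    · exact node_good allHold base_ok hD hall hrep node1_ok
    · exact node_good allHold base_ok hD hall hrep node2_ok
    · exact node_good allHold base_ok hD hall hrep node3_ok
    · exact node_good allHold base_ok hD hall hrep node4_ok
    · exact node_good allHold base_ok hD hall hrep node5_ok
    · exact node_good allHold base_ok hD hall hrep node6_ok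
    · exact node_good allHold base_ok hD hall hrep node7_ok
    · exact node_good allHold base_ok hD hall hrep node8_ok
    · exact node_good allHold base_ok hD hall hrep node9_ok
    · exact node_good allHold base_ok hD hall hrep node10_ok

/-- The index is at most 143127000. -/
theorem index_H_le : Th34.H.FiniteIndex ∧ Th34.H.index ≤ 143127000 := by
  haveI := finite_R ThCent69.boundHyp
  obtain ⟨h1, h2⟩ := DCert22.index_le_of_covered theModel covered stab_ge
  refine ⟨h1, h2.trans (le_of_eq ?_)⟩
  rw [card_R]
  decide +kernel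

/-- representatives of the suborbits -/
noncomputable def suborbitRep (a : ℕ) : Cfsg.Spor.Th :=
  (DCert22.grep theModel Data.cert a)⁻¹

/-- the suborbit bounds -/
def suborbitSize (a : ℕ) : ℕ := 634023936 / kLow a

theorem suborbitRep_zero : suborbitRep 0 = 1 := inv_one

theorem sum_suborbitSize : (live.map suborbitSize).sum = 143127000 := by decide +kernel

theorem suborbit_cover (q : Cfsg.Spor.Th ⧸ Th34.H) :
    ∃ a ∈ live, q ∈ Th34.suborbit Th34.H (suborbitRep a) := by
  induction q using QuotientGroup.induction_on with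
  | _ x =>
    obtain ⟨b, hb, g, ⟨y, rfl⟩, hr⟩ := covered x⁻¹
    refine ⟨b, hb, (hom ThCent69.boundHyp y)⁻¹,
      Th34.H.inv_mem (hom_range ThCent69.boundHyp ▸ MonoidHom.mem_range.2 ⟨y, rfl⟩), ?_⟩
    rw [QuotientGroup.eq]
    rw [DCert22.stVal, theModel.val_enc] at hr
    simpa [DCert22.Rel, suborbitRep, mul_assoc, theModel, fastModel] using hr

theorem suborbit_le {a : ℕ} (ha : a ∈ live) :
    (Th34.suborbit Th34.H (suborbitRep a)).ncard ≤ suborbitSize a := by
  haveI := finite_R ThCent69.boundHyp
  set S := DCert22.stab theModel Th34.H Data.cert a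
  obtain ⟨h1, h2⟩ := stab_ge a ha
  let f : R ⧸ S → Cfsg.Spor.Th ⧸ Th34.H := Quotient.lift
    (fun y => QuotientGroup.mk (hom ThCent69.boundHyp y * suborbitRep a)) (by
      intro y z hyz
      refine QuotientGroup.eq.2 ?_
      have hk : y⁻¹ * z ∈ S := QuotientGroup.leftRel_apply.1 hyz
      change DCert22.Rel Th34.H (DCert22.grep theModel Data.cert a *
        hom ThCent69.boundHyp (y⁻¹ * z)) (DCert22.grep theModel Data.cert a) at hk
      rw [DCert22.Rel, map_mul, map_inv] at hk
      simpa [suborbitRep, mul_assoc] using hk)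
  have hsub : Th34.suborbit Th34.H (suborbitRep a) ⊆ Set.range f := by
    rintro q ⟨h, hh, rfl⟩
    obtain ⟨y, rfl⟩ := MonoidHom.mem_range.1 ((hom_range ThCent69.boundHyp).symm ▸ hh)
    exact ⟨QuotientGroup.mk y, rfl⟩
  have hfin : (Set.range f).Finite := Set.finite_range f
  refine (Set.ncard_le_ncard hsub hfin).trans ?_
  rw [← Nat.card_coe_set_eq]
  refine (Finite.card_range_le f).trans ?_
  rw [← Subgroup.index, suborbitSize, Nat.le_div_iff_mul_le h2]
  calc S.index * kLow a ≤ S.index * Nat.card S := Nat.mul_le_mul_left _ h1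
    _ = 634023936 := by rw [mul_comm, Subgroup.card_mul_index, card_R]

end CfsgLib.ThIndex62
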