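import Cfsg.Agent.ThModel83.Model

/-!
The rule for moving the extra generator `u` past an element of `H ∩ H ^ u`, read off from a chain
with paired entries, and the coded operations used by the index certificate.
-/

set_option autoImplicit false

namespace CfsgLib.ThIndex62

open CfsgLib.ThModel83

/-- an entry with two values -/
structure PEnt where
  /-- image of the base vector -/
  k : ℕ
  /-- element -/
  v : ℕ
  /-- its conjugate by `u` -/
  w : ℕ
  /-- key of the parent -/
  pk : ℕ
  /-- index of the generator -/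
  gi : ℕ
  /-- depth -/
  dep : ℕ

/-- search trees -/
inductive PTbl where
  | leaf
  | node (e : PEnt) (l r : PTbl)

/-- lookup -/
def PTbl.find : PTbl → ℕ → Option PEnt
  | .leaf, _ => none
  | .node e l r, k =>
    bif Nat.beq k e.k then some e else bif Nat.blt k e.k then l.find k else r.find k

/-- all entries -/
def PTbl.ents : PTbl → List PEnt
  | .leaf => []
  | .node e l r => l.ents ++ e :: r.ents

/-- first components only -/
def PTbl.fstTbl : PTbl → Tbl
  | .leaf => .leaf
  | .node e l r => .node ⟨e.k, e.v, e.pk, e.gi, e.dep⟩ l.fstTbl r.fstTbl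

/-- a level with paired generators -/
structure PLvl where
  /-- base vector -/
  b : ℕ
  /-- generators -/
  gens : List (ℕ × ℕ)
  /-- table -/
  tbl : PTbl

/-- first components only -/
def PLvl.toLvl (L : PLvl) : Lvl := ⟨L.b, L.gens.map Prod.fst, L.tbl.fstTbl⟩

/-- both components are parent times generator -/
noncomputable def pentOK (L : PLvl) (e : PEnt) : Bool :=
  match e.dep with
  | 0 => Nat.beq e.v cone && Nat.beq e.w cone
  | d + 1 =>
    match L.tbl.find e.pk, L.gens[e.gi]? with
    | some e', some g =>
      Nat.beq e'.dep d && Nat.beq e.v (cmul e'.v g.1) && Nat.beq e.w (cmul e'.w g.2)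
    | _, _ => false

/-- all entries of a level -/
noncomputable def plvlOK (L : PLvl) : Bool := L.tbl.ents.all (pentOK L)

/-- generators of the next level -/
noncomputable def psrcOK (L : PLvl) : List (ℕ × ℕ × ℕ) → List (ℕ × ℕ) → Bool
  | [], [] => true
  | (x, j, y) :: s, g :: gs =>
    (match L.tbl.find x, L.gens[j]?, L.tbl.find y with
      | some ex, some gj, some ey =>
        Nat.beq g.1 (cmul (cmul ex.v gj.1) (cinv ey.v)) &&
          Nat.beq g.2 (cmul (cmul ex.w gj.2) (cinv ey.w))
      | _, _, _ => false) && psrcOK L s gs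
  | _, _ => false

/-- sifting both components -/
noncomputable def cimAux : List PLvl → ℕ → ℕ → ℕ → Option (ℕ × ℕ)
  | [], _, q, r => some (q, r)
  | L :: Ls, A, q, r =>
    match L.tbl.find (vm L.b A) with
    | some e => cimAux Ls (mulP A (hi e.v)) (cmul e.v q) (cmul e.w r)
    | none => none

/-- the partner of a code -/
noncomputable def cimF (Ls : List PLvl) (n : ℕ) : Option ℕ :=
  match cimAux Ls (lo n) cone cone with
  | some (q, r) => bif Nat.beq n q then some r else none
  | none => none

/-- `c u = u d` -/
def Twist (hb : BoundHyp) (c d : ℕ) : Prop :=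
  ∃ x y : R, cenc x.1 = c ∧ cenc y.1 = d ∧
    hom hb x * Th34.g .u = Th34.g .u * hom hb y

theorem Twist.one (hb : BoundHyp) : Twist hb cone cone :=
  ⟨1, 1, cenc_one, cenc_one, by simp⟩

theorem Twist.mul {hb : BoundHyp} {c d c' d' : ℕ} : Twist hb c d → Twist hb c' d' →
    Twist hb (cmul c c') (cmul d d') := by
  rintro ⟨x, y, rfl, rfl, h⟩ ⟨x', y', rfl, rfl, h'⟩
  refine ⟨x * x', y * y', cenc_mul _ _, cenc_mul _ _, ?_⟩
  rw [map_mul, map_mul, mul_assoc, h', ← mul_assoc, h, mul_assoc]

theorem Twist.inv {hb : BoundHyp} {c d : ℕ} : Twist hb c d → Twist hb (cinv c) (cinv d) := by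
  rintro ⟨x, y, rfl, rfl, h⟩
  refine ⟨x⁻¹, y⁻¹, cenc_inv _, cenc_inv _, ?_⟩
  rw [map_inv, map_inv, eq_comm, ← mul_inv_eq_iff_eq_mul] at *
  rw [← h]
  group

theorem PTbl.find_mem : ∀ (t : PTbl) (k : ℕ) (e : PEnt), t.find k = some e → e ∈ t.ents
  | .leaf, _, _, h => by simp [PTbl.find] at h
  | .node e l r, k, e', h => by
    rw [PTbl.find] at h
    simp only [PTbl.ents, List.mem_append, List.mem_cons]
    cases h1 : Nat.beq k e.k
    · cases h2 : Nat.blt k e.k
      · rw [h1, h2] at h; exact Or.inr (Or.inr (find_mem r k e' h))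
      · rw [h1, h2] at h; exact Or.inl (find_mem l k e' h)
    · rw [h1] at h; exact Or.inr (Or.inl (Option.some.inj h).symm)

variable {hb : BoundHyp}

theorem pent_twist {L : PLvl} (hL : plvlOK L = true) (hg : ∀ g ∈ L.gens, Twist hb g.1 g.2) :
    ∀ e ∈ L.tbl.ents, Twist hb e.v e.w := by
  intro e he
  induction hn : e.dep using Nat.strong_induction_on generalizing e with
  | _ d ih =>
    have h := List.all_eq_true.1 hL e he
    rw [pentOK] at h
    split at h
    · rw [Bool.and_eq_true] at h
      rw [Nat.eq_of_beq_eq_true h.1, Nat.eq_of_beq_eq_true h.2]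
      exact Twist.one hb
    · rename_i d' hd
      split at h
      · rename_i e' g he' hg'
        simp only [Bool.and_eq_true] at h
        obtain ⟨⟨h1, h2⟩, h3⟩ := h
        rw [Nat.eq_of_beq_eq_true h2, Nat.eq_of_beq_eq_true h3]
        have h1 := Nat.eq_of_beq_eq_true h1
        exact (ih e'.dep (by omega) e' (PTbl.find_mem _ _ _ he') rfl).mul
          (hg g (List.mem_of_getElem? hg'))
      · simp at h

theorem psrcOK_twist {L : PLvl} (hL : plvlOK L = true) (hg : ∀ g ∈ L.gens, Twist hb g.1 g.2) :
    ∀ (s : List (ℕ × ℕ × ℕ)) (gs : List (ℕ × ℕ)), psrcOK L s gs = true →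
      ∀ g ∈ gs, Twist hb g.1 g.2
  | [], [], _, g, hgm => by simp at hgm
  | [], _ :: _, h, _, _ => by simp [psrcOK] at h
  | _ :: _, [], h, _, _ => by simp [psrcOK] at h
  | (x, j, y) :: s, g' :: gs, h, g, hgm => by
    rw [psrcOK, Bool.and_eq_true] at h
    rcases List.mem_cons.1 hgm with rfl | hgm
    · obtain ⟨h1, -⟩ := h
      split at h1
      · rename_i ex gj ey hx hj hy
        rw [Bool.and_eq_true] at h1
        rw [Nat.eq_of_beq_eq_true h1.1, Nat.eq_of_beq_eq_true h1.2]
        exact ((pent_twist hL hg ex (PTbl.find_mem _ _ _ hx)).mul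
          (hg gj (List.mem_of_getElem? hj))).mul (pent_twist hL hg ey (PTbl.find_mem _ _ _ hy)).inv
      · simp at h1
    · exact psrcOK_twist hL hg s gs h.2 g hgm

theorem cimAux_twist : ∀ (Ls : List PLvl) (A q r : ℕ) (p : ℕ × ℕ),
    (∀ L ∈ Ls, ∀ e ∈ L.tbl.ents, Twist hb e.v e.w) → Twist hb q r →
    cimAux Ls A q r = some p → Twist hb p.1 p.2
  | [], _, _, _, p, _, hq, h => by
    rw [cimAux] at h
    cases h
    exact hq
  | L :: Ls, A, q, r, p, hall, hq, h => by
    rw [cimAux] at h
    split at h
    · rename_i e he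
      exact cimAux_twist Ls _ _ _ p (fun M hM => hall M (List.mem_cons_of_mem _ hM))
        ((hall L List.mem_cons_self e (PTbl.find_mem _ _ _ he)).mul hq) h
    · simp at h

theorem cimF_spec {Ls : List PLvl} (hall : ∀ L ∈ Ls, ∀ e ∈ L.tbl.ents, Twist hb e.v e.w) :
    CimSpec hb (cimF Ls) := by
  intro c d h
  rw [cimF] at h
  split at h
  · rename_i q r hq
    cases hb' : Nat.beq c q
    · rw [hb'] at h; simp at h
    · rw [hb'] at h
      simp only [cond_true, Option.some.injEq] at h
      subst h
      have := cimAux_twist Ls _ _ _ _ hall (Twist.one hb) hq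
      rw [Nat.eq_of_beq_eq_true hb']
      exact this
  · simp at h

/-- listed codes and everything that sifts -/
noncomputable def validIn (l : List ℕ) (n : ℕ) : Bool := l.contains n || validCode n

/-- membership test with a short list in front -/
noncomputable def fastCode (l : List ℕ) (cim : ℕ → Option ℕ) : DCert22.Code where
  mul := cmul
  inv := cinv
  one := cone
  u := uCode
  valid := validIn l
  cim := cim

/-- the model over a short list -/
noncomputable def fastModel (hb : BoundHyp) (l : List ℕ) (hl : l.all validCode = true)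
    (cim : ℕ → Option ℕ) (hcim : CimSpec hb cim) :
    DCert22.Model (fastCode l cim) Cfsg.Spor.Th R where
  enc x := cenc x.1
  hom := hom hb
  t := Th34.g .u
  enc_inj := (model hb cim hcim).enc_inj
  enc_one := (model hb cim hcim).enc_one
  enc_mul := (model hb cim hcim).enc_mul
  enc_inv := (model hb cim hcim).enc_inv
  valid_spec n h := by
    have h' : validCode n = true := by
      rw [show (fastCode l cim).valid n = validIn l n from rfl, validIn, Bool.or_eq_true] at h
      rcases h with h | h
      · exact List.all_eq_true.1 hl n (by simpa using h)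
      · exact h
    exact (model hb cim hcim).valid_spec n h'
  u_spec := (model hb cim hcim).u_spec
  cim_spec := hcim

end CfsgLib.ThIndex62
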