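import Cfsg.Agent.ThIndex62.Base
import Cfsg.Agent.DCosetCert22.Closure

/-!
Points of `u`: conjugates of one matrix under the packed model. Their count identifies the
stabiliser of the base point, and forests over the points close the nodes of a certificate.
-/

set_option autoImplicit false

namespace CfsgLib.ThIndex62

open CfsgLib.ThModel83

/-- arrays as trees -/
inductive Arr (α : Type) where
  | one (v : α)
  | node (n : ℕ) (l r : Arr α)

/-- lookup -/
def Arr.get {α : Type} : Arr α → ℕ → α
  | .one v, _ => v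
  | .node n l r, i => bif Nat.blt i n then l.get i else r.get (i - n)

/-- parent data: at depth zero a fact and its direction, otherwise parent and generator -/
structure Par where
  /-- parent or fact -/
  p : ℕ
  /-- generator or direction -/
  j : ℕ
  /-- depth -/
  dep : ℕ

/-- a range of checks -/
def rangeB (f : ℕ → Bool) (s : ℕ) : ℕ → Bool
  | 0 => true
  | k + 1 => rangeB f s k && f (s + k)

theorem rangeB_spec {f : ℕ → Bool} {s : ℕ} : ∀ {k : ℕ}, rangeB f s k = true →
    ∀ i, s ≤ i → i < s + k → f i = true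
  | 0, _, i, h1, h2 => absurd h2 (by omega)
  | k + 1, h, i, h1, h2 => by
    rw [rangeB, Bool.and_eq_true] at h
    rcases Nat.lt_or_ge i (s + k) with hi | hi
    · exact rangeB_spec h.1 i h1 hi
    · rw [show i = s + k by omega]; exact h.2

/-- conjugation of a packed matrix by a code -/
noncomputable def conjP (k A : ℕ) : ℕ := mulP (mulP (lo k) A) (hi k)

/-- conjugate of a fixed matrix -/
noncomputable def key (X : Mat) (x : Matˣ) : Mat := (x : Mat) * X * ((x⁻¹ : Matˣ) : Mat)

theorem key_cenc (X : Mat) (x : Matˣ) : conjP (cenc x) X.1 = (key X x).1 := by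
  rw [conjP, lo_cenc, hi_cenc, key, coe_mul, coe_mul]

theorem key_mul (X : Mat) (x y : Matˣ) :
    key X (x * y) = (x : Mat) * key X y * ((x⁻¹ : Matˣ) : Mat) := by
  simp only [key, mul_inv_rev, Units.val_mul, mul_assoc]

theorem conjP_key (X : Mat) (x y : Matˣ) :
    conjP (cenc x) (key X y).1 = (key X (x * y)).1 := by
  rw [conjP, lo_cenc, hi_cenc, key_mul, coe_mul, coe_mul]

/-- the elements fixing the matrix -/
def fixX (X : Mat) : Subgroup Matˣ where
  carrier := {x | key X x = X}
  one_mem' := by simp [key]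
  mul_mem' {x y} hx hy := by
    show key X (x * y) = X
    rw [key_mul, hy]; exact hx
  inv_mem' {x} hx := by
    show key X x⁻¹ = X
    have h := key_mul X x⁻¹ x
    rw [inv_mul_cancel, hx] at h
    rw [show key X 1 = X by simp [key]] at h
    rw [key]
    exact h.symm

theorem key_mul_fix {X : Mat} (x : Matˣ) {s : Matˣ} (h : s ∈ fixX X) :
    key X (x * s) = key X x := by
  rw [key_mul, (show key X s = X from h)]; rfl

/-- the elements that pass `u` -/
def dsub (hb : BoundHyp) : Subgroup Matˣ where
  carrier := {x | ∃ d, Twist hb (cenc x) d}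
  one_mem' := ⟨cone, cenc_one.symm ▸ Twist.one hb⟩
  mul_mem' := fun {x y} ⟨d, h⟩ ⟨e, h'⟩ => ⟨cmul d e, by rw [cenc_mul]; exact h.mul h'⟩
  inv_mem' := fun {x} ⟨d, h⟩ => ⟨cinv d, by rw [cenc_inv]; exact h.inv⟩

theorem finite_R (hb : BoundHyp) : Finite R :=
  haveI := hb.1
  Finite.of_surjective rho.rangeRestrict rho.rangeRestrict_surjective

theorem card_R_le (hb : BoundHyp) : Nat.card R ≤ 634023936 :=
  haveI := hb.1
  (Nat.card_le_card_of_surjective _ rho.rangeRestrict_surjective).trans hb.2

/-- a point is its parent moved by a generator, roots are the base point -/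
noncomputable def pointOK (X : ℕ) (gens : List ℕ) (pts : Arr ℕ) (par : Arr Par) (np p : ℕ) :
    Bool :=
  let P := par.get p
  match P.dep with
  | 0 => Nat.beq (pts.get p) X
  | d + 1 =>
    match gens[P.j]? with
    | some g => Nat.blt P.p np && Nat.beq (par.get P.p).dep d &&
        Nat.beq (conjP g (pts.get P.p)) (pts.get p)
    | none => false

/-- the points increase -/
def incOK (pts : Arr ℕ) (p : ℕ) : Bool := Nat.blt (pts.get p) (pts.get (p + 1))

/-- the points are all conjugates of the base point and its stabiliser passes `u` -/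
theorem points_spec (hb : BoundHyp) (X : Mat) (pts : Arr ℕ) (par : Arr Par) {np : ℕ}
    (hpts : ∀ p < np, pointOK X.1 genCode pts par np p = true)
    (hinc : ∀ p, p + 1 < np → incOK pts p = true)
    {cs : ℕ} (hS : cs ≤ Nat.card ↥(R ⊓ fixX X ⊓ dsub hb)) (hsz : 634023936 ≤ np * cs)
    (hcs : 0 < cs) :
    R ⊓ fixX X ≤ dsub hb ∧ (∀ x ∈ R, ∃ p < np, pts.get p = (key X x).1) ∧
      ∀ p < np, ∃ x ∈ R, pts.get p = (key X x).1 := by
  classical
  haveI := finite_R hb
  have hfin : Finite ↥(R ⊓ fixX X) :=
    Finite.of_injective (Subgroup.inclusion inf_le_left) (Subgroup.inclusion_injective _)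
  have hrep : ∀ p < np, ∃ x ∈ R, (key X x).1 = pts.get p := by
    intro p hp
    induction hn : (par.get p).dep using Nat.strong_induction_on generalizing p with
    | _ n ih =>
      have h := hpts p hp
      simp only [pointOK] at h
      split at h
      · exact ⟨1, R.one_mem, by simp [key, Nat.eq_of_beq_eq_true h]⟩
      · rename_i d hd
        split at h
        swap; · simp at h
        rename_i g hg
        simp only [Bool.and_eq_true] at h
        obtain ⟨⟨h1, h2⟩, h3⟩ := h
        have h2 := Nat.eq_of_beq_eq_true h2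
        obtain ⟨y, hy, hy'⟩ := ih (par.get (par.get p).p).dep (by omega) _
          (by simpa [Nat.blt, Nat.ble_eq] using h1) rfl
        obtain ⟨z, hz, rfl⟩ := gen_inR g (List.mem_of_getElem? hg)
        refine ⟨z * y, R.mul_mem hz hy, ?_⟩
        rw [← conjP_key, hy', Nat.eq_of_beq_eq_true h3]
  have hlt : ∀ q < np, ∀ p < q, pts.get p < pts.get q := by
    intro q
    induction q with
    | zero => intro _ p hp; omega
    | succ q ih =>
      intro hq p hp
      have h1 : pts.get q < pts.get (q + 1) := by
        have := hinc q hq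
        simpa [incOK, Nat.blt, Nat.ble_eq] using this
      rcases Nat.lt_succ_iff_lt_or_eq.1 hp with hp | rfl
      · exact (ih (by omega) p hp).trans h1
      · exact h1
  choose rep hrepR hrepK using fun p : Fin np => hrep p.1 p.2
  let f : Fin np × ↥(R ⊓ fixX X) → R := fun z =>
    ⟨rep z.1 * z.2.1, R.mul_mem (hrepR z.1) z.2.2.1⟩
  have hf : Function.Injective f := by
    rintro ⟨p, s⟩ ⟨q, t⟩ h
    have h' : rep p * s.1 = rep q * t.1 := congrArg Subtype.val h
    have hk : pts.get p = pts.get q := by
      rw [← hrepK, ← hrepK, ← key_mul_fix (rep p) s.2.2, h', key_mul_fix _ t.2.2]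
    have hpq : p = q := by
      rcases Nat.lt_trichotomy p.1 q.1 with hl | hl | hl
      · exact absurd hk (hlt q q.2 p hl).ne
      · exact Fin.ext hl
      · exact absurd hk (hlt p p.2 q hl).ne'
    subst hpq
    exact Prod.ext rfl (Subtype.ext (mul_left_cancel h'))
  have h1 := Nat.card_le_card_of_injective f hf
  rw [Nat.card_prod, Nat.card_eq_fintype_card (α := Fin np), Fintype.card_fin] at h1
  have h2 := card_R_le hb
  have hSle : Nat.card ↥(R ⊓ fixX X ⊓ dsub hb) ≤ Nat.card ↥(R ⊓ fixX X) :=
    Nat.card_le_card_of_injective _ (Subgroup.inclusion_injective inf_le_left)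
  have hmul := Nat.mul_le_mul_left np (hS.trans hSle)
  have hnp : 0 < np := by
    rcases Nat.eq_zero_or_pos np with h | h
    · subst h; simp at hsz
    · exact h
  have hfx : Nat.card ↥(R ⊓ fixX X) ≤ cs := by
    refine Nat.le_of_mul_le_mul_left ?_ hnp
    omega
  have hcard : Nat.card (Fin np × ↥(R ⊓ fixX X)) = Nat.card R := by
    rw [Nat.card_prod, Nat.card_eq_fintype_card (α := Fin np), Fintype.card_fin]
    omega
  refine ⟨?_, fun x hx => ?_, fun p hp => ⟨rep ⟨p, hp⟩, hrepR ⟨p, hp⟩, (hrepK ⟨p, hp⟩).symm⟩⟩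
  · have he : R ⊓ fixX X ⊓ dsub hb = R ⊓ fixX X :=
      Subgroup.eq_of_le_of_card_ge inf_le_left (hfx.trans hS)
    exact inf_eq_left.1 he
  · obtain ⟨⟨p, s⟩, hps⟩ := ((Nat.bijective_iff_injective_and_card f).2 ⟨hf, hcard⟩).2 ⟨x, hx⟩
    refine ⟨p, p.2, ?_⟩
    rw [← hrepK, ← key_mul_fix (rep p) s.2.2]
    exact congrArg (fun z : Matˣ => (key X z).1) (congrArg Subtype.val hps)

variable {l : List ℕ} {cim : ℕ → Option ℕ}

/-- the code with the forest check of one node -/
noncomputable def nodePtOK (C : DCert22.Code) (D : DCert22.Cert) (n : ℕ) (live : List ℕ) (a : ℕ)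
    (pts : Arr ℕ) (kg : List ℕ) (par : Arr Par) (np p : ℕ) : Bool :=
  let P := par.get p
  match P.dep with
  | 0 =>
    Nat.blt P.p n &&
    match D.facts.get P.p with
    | some F =>
      let s := Nat.beq P.j 1
      let x := bif s then F.x else F.y
      Nat.beq (conjP x (pts.get np)) (pts.get p) &&
        match DCert22.step C D.facts n (.t P.p s) (a, x) with
        | some (b, _) => live.contains b
        | none => false
    | none => false
  | d + 1 =>
    Nat.blt P.p np && Nat.beq (par.get P.p).dep d &&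
    match kg[P.j]? with
    | some i =>
      Nat.blt i n &&
      match D.facts.get i with
      | some F => !F.e && Nat.beq F.a a && Nat.beq F.b a && Nat.beq F.y cone &&
          Nat.beq (conjP F.x (pts.get P.p)) (pts.get p)
      | none => false
    | none => false

variable {hb : BoundHyp} {hl : l.all validCode = true} {hcim : CimSpec hb cim}
variable {L : Subgroup Cfsg.Spor.Th} {D : DCert22.Cert} {n : ℕ}

/-- a checked forest closes a node -/
theorem node_good (hA : DCert22.AllHold (fastModel hb l hl cim hcim) L D n) {X : Mat}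
    {live : List ℕ} {a np : ℕ} {pts : Arr ℕ} {kg : List ℕ} {par : Arr Par}
    (hX : pts.get np = X.1)
    (hD : R ⊓ fixX X ≤ dsub hb) (hall : ∀ x ∈ R, ∃ p < np, pts.get p = (key X x).1)
    (hrep : ∀ p < np, ∃ x ∈ R, pts.get p = (key X x).1)
    (h : ∀ p < np, nodePtOK (fastCode l cim) D n live a pts kg par np p = true) :
    ∀ x, (fastModel hb l hl cim hcim).Ok x →
      DCert22.Good (fastModel hb l hl cim hcim) L D live a x := by
  rintro _ ⟨z, rfl⟩
  obtain ⟨p, hp, hpz⟩ := hall z.1 z.2
  induction hn : (par.get p).dep using Nat.strong_induction_on generalizing p z with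
  | _ m ih =>
    have hh := h p hp
    simp only [nodePtOK] at hh
    split at hh
    · rw [Bool.and_eq_true] at hh
      obtain ⟨hi, hh⟩ := hh
      split at hh
      swap; · simp at hh
      rename_i F hF
      simp only [Bool.and_eq_true] at hh
      obtain ⟨hk, hs⟩ := hh
      obtain ⟨⟨z1, h1⟩, ⟨z2, h2⟩, -⟩ := hA (par.get p).p (by simpa [Nat.blt, Nat.ble_eq] using hi) F hF
      generalize hs' : Nat.beq (par.get p).j 1 = s at hk hs
      obtain ⟨r, hr⟩ : ∃ r : R, cenc r.1 = bif s then F.x else F.y := by
        cases s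
        · exact ⟨z2, h2⟩
        · exact ⟨z1, h1⟩
      rw [← hr] at hk hs
      split at hs
      swap; · simp at hs
      rename_i b g hst
      obtain ⟨-, og, hrel⟩ := DCert22.step_spec (fastModel hb l hl cim hcim) hA
        (p := (a, cenc r.1)) ⟨r, rfl⟩ hst
      have hc : r.1⁻¹ * z.1 ∈ fixX X := by
        show key X (r.1⁻¹ * z.1) = X
        rw [hX, key_cenc] at hk
        have hkey : key X r.1 = key X z.1 :=
          Subtype.ext ((Nat.eq_of_beq_eq_true hk).trans hpz)
        rw [key_mul, ← hkey, ← key_mul, inv_mul_cancel]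
        simp [key]
      obtain ⟨d, x', y', hx', -, hu⟩ := hD ⟨(r⁻¹ * z).2, hc⟩
      have hxz : x' = r⁻¹ * z := Subtype.ext (cenc_inj hx')
      subst hxz
      refine ⟨b, List.contains_iff_mem.1 hs, _,
        (fastModel hb l hl cim hcim).ok_mul og ⟨y', rfl⟩, ?_⟩
      have hv := hrel.mul (hom hb y')
      have e1 : ∀ w : R, (fastModel hb l hl cim hcim).val ((fastModel hb l hl cim hcim).enc w) =
          hom hb w := (fastModel hb l hl cim hcim).val_enc
      have e3 : (fastModel hb l hl cim hcim).val (cenc y'.1) = hom hb y' := e1 y'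
      have e2 : (fastModel hb l hl cim hcim).val (cenc r.1) = hom hb r := e1 r
      simp only [DCert22.stVal, DCert22.Model.pathVal, mul_one,
        (fastModel hb l hl cim hcim).val_mul og ⟨y', rfl⟩, e1, e2, e3] at hv ⊢
      have ez : hom hb z = hom hb r * hom hb (r⁻¹ * z) := by rw [← map_mul, mul_inv_cancel_left]
      change DCert22.Rel L (_ * _ * Th34.g .u * hom hb y') _ at hv
      show DCert22.Rel L (_ * hom hb z * Th34.g .u) _
      rw [ez]
      simp only [mul_assoc] at hv ⊢
      rw [hu]
      exact hv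
    · rename_i d hd
      simp only [Bool.and_eq_true] at hh
      obtain ⟨⟨hq, hdep⟩, hh⟩ := hh
      split at hh
      swap; · simp at hh
      rename_i i hi'
      rw [Bool.and_eq_true] at hh
      obtain ⟨hin, hh⟩ := hh
      split at hh
      swap; · simp at hh
      rename_i F hF
      simp only [Bool.and_eq_true, Bool.not_eq_true'] at hh
      obtain ⟨⟨⟨⟨he, ha⟩, hbb⟩, hy⟩, hk⟩ := hh
      obtain ⟨⟨k, hkx⟩, -, hrel⟩ := hA i (by simpa [Nat.blt, Nat.ble_eq] using hin) F hF
      change cenc k.1 = F.x at hkx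
      have hpz' : pts.get (par.get p).p = (key X (k⁻¹ * z).1).1 := by
        obtain ⟨w, hw, hw'⟩ := hrep (par.get p).p (by simpa [Nat.blt, Nat.ble_eq] using hq)
        rw [← hkx, hw', conjP_key] at hk
        have hkey : key X (k.1 * w) = key X z.1 :=
          Subtype.ext ((Nat.eq_of_beq_eq_true hk).trans hpz)
        rw [hw']
        show _ = (key X (k.1⁻¹ * z.1)).1
        rw [key_mul X k.1⁻¹ z.1, ← hkey, ← key_mul, inv_mul_cancel_left]
      obtain ⟨b, hb', g, og, hg⟩ := ih (par.get (par.get p).p).dep
        (by have := Nat.eq_of_beq_eq_true hdep; omega) (k⁻¹ * z) _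
        (by simpa [Nat.blt, Nat.ble_eq] using hq) hpz' rfl
      refine ⟨b, hb', g, og, ?_⟩
      have hz : hom hb z = hom hb k * hom hb (k⁻¹ * z) := by rw [← map_mul, mul_inv_cancel_left]
      refine DCert22.Rel.trans ?_ hg
      simp only [DCert22.stVal, he, Bool.false_eq_true, if_false, mul_one,
        Nat.eq_of_beq_eq_true ha, Nat.eq_of_beq_eq_true hbb, Nat.eq_of_beq_eq_true hy,
        ← hkx] at hrel
      have e1 : ∀ w : R, (fastModel hb l hl cim hcim).val (cenc w.1) = hom hb w :=
        (fastModel hb l hl cim hcim).val_enc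
      have e0 : (fastModel hb l hl cim hcim).val cone = 1 := (fastModel hb l hl cim hcim).val_one
      rw [e1, e0, mul_one] at hrel
      have hv := hrel.mul (hom hb (k⁻¹ * z) * Th34.g .u)
      show DCert22.Rel L (_ * (fastModel hb l hl cim hcim).val (cenc z.1) * Th34.g .u)
        (_ * (fastModel hb l hl cim hcim).val (cenc (k⁻¹ * z).1) * Th34.g .u)
      rw [e1, e1, hz]
      simp only [mul_assoc] at hv ⊢
      exact hv

end CfsgLib.ThIndex62
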