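import Cfsg.Agent.ThIndex62.RelsProof
import Cfsg.Agent.ThIndex62.Check.Facts0
import Cfsg.Agent.ThIndex62.Check.Facts1
import Cfsg.Agent.ThIndex62.Check.Facts2
import Cfsg.Agent.ThIndex62.Check.Facts3
import Cfsg.Agent.ThIndex62.Check.Facts4
import Cfsg.Agent.ThIndex62.Check.Facts5
import Cfsg.Agent.ThIndex62.Check.Facts6
import Cfsg.Agent.ThIndex62.Check.Facts7
import Cfsg.Agent.ThIndex62.Check.Facts8
import Cfsg.Agent.ThIndex62.Check.Facts9
import Cfsg.Agent.ThIndex62.Check.Facts10
import Cfsg.Agent.ThIndex62.Check.Facts11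
import Cfsg.Agent.ThIndex62.Check.Facts12
import Cfsg.Agent.ThIndex62.Check.Facts13
import Cfsg.Agent.ThIndex62.Check.Facts14
import Cfsg.Agent.ThIndex62.Check.Facts15
import Cfsg.Agent.ThIndex62.Check.Points
import Cfsg.Agent.ThIndex62.Check.Chains
import Cfsg.Agent.ThModel83.Inj

/-!
The facts of the index certificate hold in the presented Thompson group.
-/

set_option autoImplicit false
set_option maxRecDepth 100000

namespace CfsgLib.ThIndex62

open CfsgLib.ThModel83 Cfsg.Spor

theorem cimGens_ok :
    ((Data.clvl0.gens.zip cimGens).all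
        (fun p => Nat.beq p.1.1 (wcode p.2.1) && Nat.beq p.1.2 (wcode p.2.2)) &&
      Nat.beq Data.clvl0.gens.length cimGens.length) = true := by decide +kernel

theorem dcd_word : wprod [1, 0, 2, 1, 3, 2, 3, 4, 1, 0, 2, 1, 3, 2, 3, 1, 0, 2, 1] =
    (dcdWord.map gv).prod := by
  simp [wprod, lgen, dcdWord, gv, Th34.g]

theorem twist_gens (hb : BoundHyp) : ∀ g ∈ Data.clvl0.gens, Twist hb g.1 g.2 := by
  intro g hg
  obtain ⟨h, hl⟩ := Bool.and_eq_true _ _ ▸ cimGens_ok
  have hl := Nat.eq_of_beq_eq_true hl
  obtain ⟨k, hk, rfl⟩ := List.getElem_of_mem hg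
  have hk' : k < cimGens.length := hl ▸ hk
  have hm : (Data.clvl0.gens[k], cimGens[k]) ∈ Data.clvl0.gens.zip cimGens := by
    rw [List.mem_iff_getElem]
    exact ⟨k, by simp [hk, hk'], List.getElem_zip⟩
  have h' := List.all_eq_true.1 h _ hm
  simp only at h'
  rw [Bool.and_eq_true] at h'
  have all7 : ∀ q ∈ cimGens, Twist hb (wcode q.1) (wcode q.2) := by
    intro q hq
    simp only [cimGens, List.mem_cons, List.not_mem_nil, or_false] at hq
    rcases hq with rfl | rfl | rfl | rfl | rfl | rfl | rfl
    · exact twist_a hb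
    · exact twist_c hb
    · exact twist_e hb
    · exact twist_t hb
    · exact twist_z hb
    · exact twist_sses hb
    · refine twist_of_words hb ?_
      rw [dcd_word, ← cim_dcd]
      simp [wprod, lgen, mul_assoc, Th34.g]
  exact (congrArg₂ (Twist hb) (Nat.eq_of_beq_eq_true h'.1)
    (Nat.eq_of_beq_eq_true h'.2)).mpr (all7 _ (List.getElem_mem hk'))

theorem clvls_ents (hb : BoundHyp) :
    ∀ L ∈ Data.clvls, ∀ e ∈ L.tbl.ents, Twist hb e.v e.w := by
  obtain ⟨h, -⟩ := Bool.and_eq_true _ _ ▸ cim_ok
  have hl := List.all_eq_true.1 h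
  have g0 := twist_gens hb
  have h0 : plvlOK Data.clvl0 = true := hl _ (by simp [Data.clvls])
  have h1 : plvlOK Data.clvl1 = true := hl _ (by simp [Data.clvls])
  have g1 := psrcOK_twist h0 g0 _ _ cim_src
  intro L hL
  simp only [Data.clvls, List.mem_cons, List.not_mem_nil, or_false] at hL
  rcases hL with rfl | rfl
  · exact pent_twist h0 g0
  · exact pent_twist h1 g1

theorem cim_spec62 : CimSpec ThCent69.boundHyp (cimF Data.clvls) :=
  cimF_spec (clvls_ents _)

/-- the model of the certificate -/
noncomputable def theModel : DCert22.Model theCode Cfsg.Spor.Th R :=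
  fastModel ThCent69.boundHyp Data.hlist hlist_valid (cimF Data.clvls) cim_spec62

theorem rels_eq : Data.rels.length = ((segs.map nfCode).flatMap allForms).length ∧
    ((Data.rels.zip ((segs.map nfCode).flatMap allForms)).all
      fun p => DCert22.wordEq p.1 p.2) = true := by decide +kernel

theorem certOK : DCert22.CertOK theModel Th34.H Data.cert where
  nodes_lt k a x h := by
    have hk : k < Data.nodes.length := by
      by_contra hc
      rw [show Data.cert.nodes = Data.nodes from rfl, List.getElem?_eq_none (by omega)] at h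
      simp at h
    have ha : ((List.range Data.nodes.length).zip (Data.nodes.map Prod.fst)).all
        (fun p => Nat.ble p.2 p.1) = true := by decide +kernel
    rw [show Data.cert.nodes = Data.nodes from rfl, List.getElem?_eq_getElem hk] at h
    have hm : (k, a) ∈ (List.range Data.nodes.length).zip (Data.nodes.map Prod.fst) := by
      rw [List.mem_iff_getElem]
      refine ⟨k, by simpa using hk, ?_⟩
      simp [Option.some.inj h]
    exact Nat.le_of_ble_eq_true (List.all_eq_true.1 ha _ hm)
  rels i w h := by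
    have hi : i < Data.rels.length := by
      by_contra hc
      rw [show Data.cert.rels = Data.rels from rfl, List.getElem?_eq_none (by omega)] at h
      simp at h
    rw [show Data.cert.rels = Data.rels from rfl, List.getElem?_eq_getElem hi] at h
    obtain ⟨hlen, hall⟩ := rels_eq
    have hi' : i < ((segs.map nfCode).flatMap allForms).length := hlen ▸ hi
    have hm : (Data.rels[i], ((segs.map nfCode).flatMap allForms)[i]) ∈
        Data.rels.zip ((segs.map nfCode).flatMap allForms) := by
      rw [List.mem_iff_getElem]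
      exact ⟨i, by simp only [List.length_zip]; omega, List.getElem_zip⟩
    have he := DCert22.wordEq_eq (List.all_eq_true.1 hall _ hm)
    simp only at he
    obtain ⟨v, hv, hv'⟩ := List.mem_flatMap.1 (List.getElem_mem hi')
    obtain ⟨s, hs, rfl⟩ := List.mem_map.1 hv
    obtain ⟨-, h1⟩ := isRel_allForms ThCent69.boundHyp _
      (isRel_nfCode _ _ (segs_prod ThCent69.boundHyp s hs)) _ hv'
    rw [← Option.some.inj h]
    exact (congrArg theModel.wordVal he).trans h1
  subs i w h := by
    obtain ⟨g, hg, rfl⟩ := List.mem_map.1 (List.mem_of_getElem? h)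
    obtain ⟨x, hx, rfl⟩ := gen_inR g hg
    show theModel.val (theModel.enc ⟨x, hx⟩) * _ ∈ Th34.H
    rw [List.map_nil, List.prod_nil, mul_one, theModel.val_enc]
    exact hom_range ThCent69.boundHyp ▸ MonoidHom.mem_range.2 ⟨⟨x, hx⟩, rfl⟩

theorem allHold : DCert22.AllHold theModel Th34.H Data.cert Data.nfacts := by
  refine DCert22.allHold_of_ranges theModel certOK fun i hi => ?_
  simp only [Data.nfacts] at hi
  by_cases h16 : i < 2760
  · by_cases h8 : i < 1380
    · by_cases h4 : i < 690
      · by_cases h2 : i < 345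
        · by_cases h1 : i < 173
          · obtain ⟨j, rfl⟩ : ∃ j, i = 0 + j := ⟨i - 0, by omega⟩
            exact DCert22.rangeOK_spec facts_ok_0_0 j (by omega)
          · obtain ⟨j, rfl⟩ : ∃ j, i = 173 + j := ⟨i - 173, by omega⟩
            exact DCert22.rangeOK_spec facts_ok_0_1 j (by omega)
        · by_cases h3 : i < 518
          · obtain ⟨j, rfl⟩ : ∃ j, i = 345 + j := ⟨i - 345, by omega⟩
            exact DCert22.rangeOK_spec facts_ok_1_0 j (by omega)
          · obtain ⟨j, rfl⟩ : ∃ j, i = 518 + j := ⟨i - 518, by omega⟩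
            exact DCert22.rangeOK_spec facts_ok_1_1 j (by omega)
      · by_cases h6 : i < 1035
        · by_cases h5 : i < 863
          · obtain ⟨j, rfl⟩ : ∃ j, i = 690 + j := ⟨i - 690, by omega⟩
            exact DCert22.rangeOK_spec facts_ok_2_0 j (by omega)
          · obtain ⟨j, rfl⟩ : ∃ j, i = 863 + j := ⟨i - 863, by omega⟩
            exact DCert22.rangeOK_spec facts_ok_2_1 j (by omega)
        · by_cases h7 : i < 1208
          · obtain ⟨j, rfl⟩ : ∃ j, i = 1035 + j := ⟨i - 1035, by omega⟩
            exact DCert22.rangeOK_spec facts_ok_3_0 j (by omega)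
          · obtain ⟨j, rfl⟩ : ∃ j, i = 1208 + j := ⟨i - 1208, by omega⟩
            exact DCert22.rangeOK_spec facts_ok_3_1 j (by omega)
    · by_cases h12 : i < 2070
      · by_cases h10 : i < 1725
        · by_cases h9 : i < 1553
          · obtain ⟨j, rfl⟩ : ∃ j, i = 1380 + j := ⟨i - 1380, by omega⟩
            exact DCert22.rangeOK_spec facts_ok_4_0 j (by omega)
          · obtain ⟨j, rfl⟩ : ∃ j, i = 1553 + j := ⟨i - 1553, by omega⟩
            exact DCert22.rangeOK_spec facts_ok_4_1 j (by omega)
        · by_cases h11 : i < 1898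
          · obtain ⟨j, rfl⟩ : ∃ j, i = 1725 + j := ⟨i - 1725, by omega⟩
            exact DCert22.rangeOK_spec facts_ok_5_0 j (by omega)
          · obtain ⟨j, rfl⟩ : ∃ j, i = 1898 + j := ⟨i - 1898, by omega⟩
            exact DCert22.rangeOK_spec facts_ok_5_1 j (by omega)
      · by_cases h14 : i < 2415
        · by_cases h13 : i < 2243
          · obtain ⟨j, rfl⟩ : ∃ j, i = 2070 + j := ⟨i - 2070, by omega⟩
            exact DCert22.rangeOK_spec facts_ok_6_0 j (by omega)
          · obtain ⟨j, rfl⟩ : ∃ j, i = 2243 + j := ⟨i - 2243, by omega⟩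
            exact DCert22.rangeOK_spec facts_ok_6_1 j (by omega)
        · by_cases h15 : i < 2588
          · obtain ⟨j, rfl⟩ : ∃ j, i = 2415 + j := ⟨i - 2415, by omega⟩
            exact DCert22.rangeOK_spec facts_ok_7_0 j (by omega)
          · obtain ⟨j, rfl⟩ : ∃ j, i = 2588 + j := ⟨i - 2588, by omega⟩
            exact DCert22.rangeOK_spec facts_ok_7_1 j (by omega)
  · by_cases h24 : i < 4140
    · by_cases h20 : i < 3450
      · by_cases h18 : i < 3105
        · by_cases h17 : i < 2933
          · obtain ⟨j, rfl⟩ : ∃ j, i = 2760 + j := ⟨i - 2760, by omega⟩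
            exact DCert22.rangeOK_spec facts_ok_8_0 j (by omega)
          · obtain ⟨j, rfl⟩ : ∃ j, i = 2933 + j := ⟨i - 2933, by omega⟩
            exact DCert22.rangeOK_spec facts_ok_8_1 j (by omega)
        · by_cases h19 : i < 3278
          · obtain ⟨j, rfl⟩ : ∃ j, i = 3105 + j := ⟨i - 3105, by omega⟩
            exact DCert22.rangeOK_spec facts_ok_9_0 j (by omega)
          · obtain ⟨j, rfl⟩ : ∃ j, i = 3278 + j := ⟨i - 3278, by omega⟩
            exact DCert22.rangeOK_spec facts_ok_9_1 j (by omega)
      · by_cases h22 : i < 3795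
        · by_cases h21 : i < 3623
          · obtain ⟨j, rfl⟩ : ∃ j, i = 3450 + j := ⟨i - 3450, by omega⟩
            exact DCert22.rangeOK_spec facts_ok_10_0 j (by omega)
          · obtain ⟨j, rfl⟩ : ∃ j, i = 3623 + j := ⟨i - 3623, by omega⟩
            exact DCert22.rangeOK_spec facts_ok_10_1 j (by omega)
        · by_cases h23 : i < 3968
          · obtain ⟨j, rfl⟩ : ∃ j, i = 3795 + j := ⟨i - 3795, by omega⟩
            exact DCert22.rangeOK_spec facts_ok_11_0 j (by omega)
          · obtain ⟨j, rfl⟩ : ∃ j, i = 3968 + j := ⟨i - 3968, by omega⟩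
            exact DCert22.rangeOK_spec facts_ok_11_1 j (by omega)
    · by_cases h28 : i < 4830
      · by_cases h26 : i < 4485
        · by_cases h25 : i < 4313
          · obtain ⟨j, rfl⟩ : ∃ j, i = 4140 + j := ⟨i - 4140, by omega⟩
            exact DCert22.rangeOK_spec facts_ok_12_0 j (by omega)
          · obtain ⟨j, rfl⟩ : ∃ j, i = 4313 + j := ⟨i - 4313, by omega⟩
            exact DCert22.rangeOK_spec facts_ok_12_1 j (by omega)
        · by_cases h27 : i < 4658
          · obtain ⟨j, rfl⟩ : ∃ j, i = 4485 + j := ⟨i - 4485, by omega⟩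
            exact DCert22.rangeOK_spec facts_ok_13_0 j (by omega)
          · obtain ⟨j, rfl⟩ : ∃ j, i = 4658 + j := ⟨i - 4658, by omega⟩
            exact DCert22.rangeOK_spec facts_ok_13_1 j (by omega)
      · by_cases h30 : i < 5175
        · by_cases h29 : i < 5003
          · obtain ⟨j, rfl⟩ : ∃ j, i = 4830 + j := ⟨i - 4830, by omega⟩
            exact DCert22.rangeOK_spec facts_ok_14_0 j (by omega)
          · obtain ⟨j, rfl⟩ : ∃ j, i = 5003 + j := ⟨i - 5003, by omega⟩
            exact DCert22.rangeOK_spec facts_ok_14_1 j (by omega)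
        · by_cases h31 : i < 5348
          · obtain ⟨j, rfl⟩ : ∃ j, i = 5175 + j := ⟨i - 5175, by omega⟩
            exact DCert22.rangeOK_spec facts_ok_15_0 j (by omega)
          · obtain ⟨j, rfl⟩ : ∃ j, i = 5348 + j := ⟨i - 5348, by omega⟩
            exact DCert22.rangeOK_spec facts_ok_15_1 j (by omega)

theorem pts_ok : ∀ p < npts, pointOK xBase genCode Data.pts Data.ptsPar npts p = true := by
  intro p hp
  simp only [npts] at hp
  by_cases h0 : p < 1075
  · exact rangeB_spec pts_ok_0 p (by omega) (by omega)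
  by_cases h1 : p < 2150
  · exact rangeB_spec pts_ok_1 p (by omega) (by omega)
  by_cases h2 : p < 3225
  · exact rangeB_spec pts_ok_2 p (by omega) (by omega)
  by_cases h3 : p < 4300
  · exact rangeB_spec pts_ok_3 p (by omega) (by omega)
  by_cases h4 : p < 5375
  · exact rangeB_spec pts_ok_4 p (by omega) (by omega)
  by_cases h5 : p < 6450
  · exact rangeB_spec pts_ok_5 p (by omega) (by omega)
  by_cases h6 : p < 7525
  · exact rangeB_spec pts_ok_6 p (by omega) (by omega)
  by_cases h7 : p < 8600
  · exact rangeB_spec pts_ok_7 p (by omega) (by omega)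
  by_cases h8 : p < 9675
  · exact rangeB_spec pts_ok_8 p (by omega) (by omega)
  by_cases h9 : p < 10750
  · exact rangeB_spec pts_ok_9 p (by omega) (by omega)
  by_cases h10 : p < 11825
  · exact rangeB_spec pts_ok_10 p (by omega) (by omega)
  by_cases h11 : p < 12900
  · exact rangeB_spec pts_ok_11 p (by omega) (by omega)
  by_cases h12 : p < 13975
  · exact rangeB_spec pts_ok_12 p (by omega) (by omega)
  by_cases h13 : p < 15050
  · exact rangeB_spec pts_ok_13 p (by omega) (by omega)
  by_cases h14 : p < 16125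
  · exact rangeB_spec pts_ok_14 p (by omega) (by omega)
  exact rangeB_spec pts_ok_15 p (by omega) (by omega)

theorem stab_facts :
    (R ⊓ fixX xMat ≤ dsub ThCent69.boundHyp) ∧
      (∀ x ∈ R, ∃ p < npts, Data.pts.get p = (key xMat x).1) ∧
      ∀ p < npts, ∃ x ∈ R, Data.pts.get p = (key xMat x).1 := by
  refine points_spec ThCent69.boundHyp xMat Data.pts Data.ptsPar pts_ok
    inc_ok
    (cs := 36864) ?_ (by decide) (by decide)
  haveI := finite_R ThCent69.boundHyp
  haveI : Finite ↥(R ⊓ fixX xMat ⊓ dsub ThCent69.boundHyp) :=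
    Finite.of_injective (Subgroup.inclusion (inf_le_left.trans inf_le_left))
      (Subgroup.inclusion_injective _)
  rw [← csize_ok]
  refine chainB_card (Bool.and_eq_true _ _ ▸ cim_ok).2 ?_
  intro L hL g hg
  simp only [Data.clvls, List.map_cons, List.head?_cons, Option.mem_def, Option.some.injEq] at hL
  subst hL
  obtain ⟨p, hp, rfl⟩ := List.mem_map.1 hg
  obtain ⟨x, y, hx, hy, hu⟩ := twist_gens ThCent69.boundHyp p hp
  have hfix : Data.clvl0.gens.all (fun q => Nat.beq (conjP q.1 xBase) xBase) = true := by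
    decide +kernel
  refine ⟨x.1, ⟨⟨x.2, ?_⟩, ⟨p.2, x, y, rfl, hy, hu⟩⟩, hx⟩
  have h := Nat.eq_of_beq_eq_true (List.all_eq_true.1 hfix p hp)
  rw [← hx] at h
  exact Subtype.ext ((key_cenc xMat x.1).symm.trans h)

end CfsgLib.ThIndex62
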