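import Cfsg.Agent.ThIndex62.Words

/-!
Relators of the presentation as normal forms, and the generators passing `u`.
-/

set_option autoImplicit false
set_option maxRecDepth 100000

namespace CfsgLib.ThIndex62

open CfsgLib.ThModel83 Cfsg.Spor

/-- the relators with `u`, as words between the letters `u` -/
def segs : List (List ℕ × List (List ℕ)) :=
  [([], [[], [2, 0]]),
    ([0, 2], [[0], [0]]),
    ([0, 2], [[2], [2]]),
    ([0, 2], [[4], [4]]),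
    ([3, 4, 0, 2], [[3], [3, 4, 0, 2], [3], []]),
    ([0, 2], [[1, 2, 0, 1], [1, 0, 2, 1, 4]]),
    ([3, 0, 2], [[3, 1, 2, 0, 1, 3], [3, 1, 0, 2, 1, 2, 4, 3, 0, 2], [3, 1, 2, 0, 1, 4, 0, 2], []]),
    ([0, 2], [[6], [6]]),
    ([4, 7, 7, 0, 2], [[5, 5, 4, 7, 7], [5, 5]]),
    ([0, 2, 7, 0, 2], [[7, 0, 2], [7, 0, 2], []]),
    ([0, 2, 7, 0, 2], [[5], [7, 0, 2], [5], [7, 0, 2], [5], [7, 0, 2], [5], []]),
    ([3, 7, 7], [[5, 5, 3, 7, 7], [5, 5, 3, 7, 7], [5, 5, 3, 7, 7], [5, 5, 7, 7, 4, 3, 2, 3, 4, 5, 5, 5, 4, 3, 2, 3, 4, 7, 3, 2, 3, 2, 0]])]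
/-- generators of the elements passing `u`, with their conjugates -/
def cimGens : List (List ℕ × List ℕ) :=
  [([0], [0]),
    ([2], [2]),
    ([4], [4]),
    ([6], [8]),
    ([1, 0, 2, 1], [1, 0, 2, 1, 4]),
    ([5, 5, 4, 7, 7], [5, 5, 4, 7, 7]),
    ([3, 2, 3], [1, 0, 2, 1, 3, 2, 3, 4, 1, 0, 2, 1, 3, 2, 3, 1, 0, 2, 1])]

/-- codes of the letters `a b c d e s t s⁻¹ t⁻¹` -/
noncomputable def letters9 : List ℕ := genCode ++ [cinv Data.sC, cinv Data.tC]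

/-- code of a word -/
noncomputable def wcode : List ℕ → ℕ
  | [] => cone
  | i :: w => cmul (letters9.getD i cone) (wcode w)

/-- value of a letter -/
noncomputable def lgen : ℕ → Cfsg.Spor.Th
  | 0 => Th34.π Th.a
  | 1 => Th34.π Th.b
  | 2 => Th34.π Th.c
  | 3 => Th34.π Th.d
  | 4 => Th34.π Th.e
  | 5 => Th34.π Th.s
  | 6 => Th34.π Th.t
  | 7 => (Th34.π Th.s)⁻¹
  | 8 => (Th34.π Th.t)⁻¹
  | _ => 1

/-- value of a word -/
noncomputable def wprod (w : List ℕ) : Cfsg.Spor.Th := (w.map lgen).prod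

/-- normal form of a segmented word -/
noncomputable def nfCode (w : List ℕ × List (List ℕ)) : ℕ × List ℕ := (wcode w.1, w.2.map wcode)

theorem letter_spec (hb : BoundHyp) : ∀ i : ℕ, ∃ x : R,
    cenc x.1 = letters9.getD i cone ∧ hom hb x = lgen i
  | 0 => ⟨genR 0, cenc_genR' 0 rfl, hom_genR hb 0⟩
  | 1 => ⟨genR 1, cenc_genR' 1 rfl, hom_genR hb 1⟩
  | 2 => ⟨genR 2, cenc_genR' 2 rfl, hom_genR hb 2⟩
  | 3 => ⟨genR 3, cenc_genR' 3 rfl, hom_genR hb 3⟩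
  | 4 => ⟨genR 4, cenc_genR' 4 rfl, hom_genR hb 4⟩
  | 5 => ⟨genR 5, cenc_genR' 5 rfl, hom_genR hb 5⟩
  | 6 => ⟨genR 6, cenc_genR' 6 rfl, hom_genR hb 6⟩
  | 7 => ⟨(genR 5)⁻¹, by
      show cenc ((genR 5).1)⁻¹ = _
      rw [cenc_inv, cenc_genR' 5 (n := Data.sC) rfl]; rfl, by rw [map_inv, hom_genR]; rfl⟩
  | 8 => ⟨(genR 6)⁻¹, by
      show cenc ((genR 6).1)⁻¹ = _
      rw [cenc_inv, cenc_genR' 6 (n := Data.tC) rfl]; rfl, by rw [map_inv, hom_genR]; rfl⟩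
  | n + 9 => ⟨1, by simp [letters9, genCode, cenc_one], by simp [lgen]⟩

theorem word_spec (hb : BoundHyp) : ∀ w : List ℕ, ∃ x : R,
    cenc x.1 = wcode w ∧ hom hb x = wprod w
  | [] => ⟨1, cenc_one, by simp [wprod]⟩
  | i :: w => by
    obtain ⟨x, hx, hx'⟩ := letter_spec hb i
    obtain ⟨y, hy, hy'⟩ := word_spec hb w
    refine ⟨x * y, ?_, ?_⟩
    · show cenc (x.1 * y.1) = _
      rw [cenc_mul, hx, hy]; rfl
    · rw [map_mul, hx', hy']; rfl

theorem wprod_eq (hb : BoundHyp) {v w : List ℕ} (h : Nat.beq (wcode v) (wcode w) = true) :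
    wprod v = wprod w := by
  obtain ⟨x, hx, hx'⟩ := word_spec hb v
  obtain ⟨y, hy, hy'⟩ := word_spec hb w
  rw [← hx', ← hy']
  exact congrArg (hom hb) (Subtype.ext (cenc_inj (hx.trans ((Nat.eq_of_beq_eq_true h).trans hy.symm))))

theorem ac_comm (hb : BoundHyp) :
    Th34.π Th.c * Th34.π Th.a = Th34.π Th.a * Th34.π Th.c := by
  have h := wprod_eq hb (v := [2, 0]) (w := [0, 2]) (by decide +kernel)
  simpa [wprod, lgen] using h

theorem z_sq (hb : BoundHyp) :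
    wprod [1, 0, 2, 1] * wprod [1, 0, 2, 1] = 1 := by
  have h := wprod_eq hb (v := [1, 0, 2, 1, 1, 0, 2, 1]) (w := []) (by decide +kernel)
  simpa [wprod, mul_assoc] using h

theorem isRel_nfCode (hb : BoundHyp) (w : List ℕ × List (List ℕ))
    (h : wprod w.1 * (w.2.map fun s => Th34.g .u * wprod s).prod = 1) : IsRel hb (nfCode w) := by
  have hv : ∀ s, (wModel hb).val (wcode s) = wprod s ∧ (wModel hb).Ok (wcode s) := by
    intro s
    obtain ⟨x, hx, hx'⟩ := word_spec hb s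
    exact ⟨by rw [← hx, ← hx']; exact (wModel hb).val_enc x, ⟨x, hx⟩⟩
  refine ⟨⟨(hv _).2, ?_⟩, ?_⟩
  · intro y hy
    obtain ⟨s, -, rfl⟩ := List.mem_map.1 hy
    exact (hv s).2
  · show (wModel hb).wordVal _ = 1
    rw [DCert22.Model.wordVal, nfCode, (hv _).1, List.map_map]
    refine Eq.trans ?_ h
    congr 2
    refine List.map_congr_left fun s _ => ?_
    show (wModel hb).t * (wModel hb).val (wcode s) = _
    rw [(hv s).1]
    rfl

end CfsgLib.ThIndex62
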