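import Cfsg.Agent.ThIndex62.Rels

/-!
The segmented relators hold and the listed generators pass `u`.
-/

set_option autoImplicit false
set_option maxRecDepth 100000
set_option maxHeartbeats 1000000

namespace CfsgLib.ThIndex62

open CfsgLib.ThModel83 Cfsg.Spor

local notation "pa" => Th34.π Th.a
local notation "pb" => Th34.π Th.b
local notation "pc" => Th34.π Th.c
local notation "pd" => Th34.π Th.d
local notation "pe" => Th34.π Th.e
local notation "ps" => Th34.π Th.s
local notation "pt" => Th34.π Th.t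
local notation "pu" => Th34.π Th.u

theorem relv (n : ℕ) (h : n < Th.extra.length) : Th34.π Th.extra[n] = 1 := Th34.rel_getElem n h

theorem inv_of_sq {x : Cfsg.Spor.Th} (h : x * x = 1) : x⁻¹ = x := inv_eq_of_mul_eq_one_right h

theorem inv_u (hb : BoundHyp) : pu⁻¹ = pa * (pc * pu) := by
  have h := relv 27 (by decide)
  have hu : pu * pu = pa * pc := by
    have h' : pu * pu * (pa * pc)⁻¹ = 1 := by simpa [Th.extra, pow_two] using h
    exact mul_inv_eq_one.mp h'
  have ha : pa⁻¹ = pa := inv_of_sq (by simpa [Th.extra, pow_two] using relv 0 (by decide))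
  have hc : pc⁻¹ = pc := inv_of_sq (by simpa [Th.extra, pow_two] using relv 2 (by decide))
  have h2 : (pa * pc) * (pa * pc) = 1 := by
    rw [mul_assoc, ← mul_assoc pc, ac_comm hb, mul_assoc pa pc pc,
      show pc * pc = 1 by rw [← mul_inv_cancel pc, hc], mul_one,
      show pa * pa = 1 by rw [← mul_inv_cancel pa, ha]]
  refine inv_eq_of_mul_eq_one_left ?_
  rw [mul_assoc, mul_assoc, hu, ← mul_assoc]
  exact h2

theorem segs_prod (hb : BoundHyp) :
    ∀ w ∈ segs, wprod w.1 * (w.2.map fun s => Th34.g .u * wprod s).prod = 1 := by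
  have ha : pa⁻¹ = pa := inv_of_sq (by simpa [Th.extra, pow_two] using relv 0 (by decide))
  have hbi : pb⁻¹ = pb := inv_of_sq (by simpa [Th.extra, pow_two] using relv 1 (by decide))
  have hc : pc⁻¹ = pc := inv_of_sq (by simpa [Th.extra, pow_two] using relv 2 (by decide))
  have hd : pd⁻¹ = pd := inv_of_sq (by simpa [Th.extra, pow_two] using relv 3 (by decide))
  have he : pe⁻¹ = pe := inv_of_sq (by simpa [Th.extra, pow_two] using relv 4 (by decide))
  have hu := inv_u hb
  have g : Th34.g .u = pu := rfl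
  have r27 := relv 27 (by decide)
  have r28 := relv 28 (by decide)
  have r29 := relv 29 (by decide)
  have r30 := relv 30 (by decide)
  have r31 := relv 31 (by decide)
  have r32 := relv 32 (by decide)
  have r33 := relv 33 (by decide)
  have r34 := relv 34 (by decide)
  have r35 := relv 35 (by decide)
  have r36 := relv 36 (by decide)
  have r37 := relv 37 (by decide)
  have r38 := relv 38 (by decide)
  simp only [Th.extra, List.getElem_cons_succ, List.getElem_cons_zero, map_mul, map_inv,
    pow_succ, pow_zero, one_mul, mul_inv_rev, inv_inv, ha, hbi, hc, hd, he, hu, mul_assoc]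
    at r27 r28 r29 r30 r31 r32 r33 r34 r35 r36 r37 r38
  intro w hw
  simp only [segs, List.mem_cons, List.not_mem_nil, or_false] at hw
  rcases hw with rfl | rfl | rfl | rfl | rfl | rfl | rfl | rfl | rfl | rfl | rfl | rfl
  all_goals simp only [wprod, lgen, g, List.map_cons, List.map_nil, List.prod_cons,
    List.prod_nil, one_mul, mul_one, mul_assoc]
  all_goals assumption

theorem z_word : wprod [1, 0, 2, 1] = pb * (pa * (pc * pb)) := by simp [wprod, lgen]

theorem twist_of_words (hb : BoundHyp) {v w : List ℕ}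
    (h : wprod v * Th34.g .u = Th34.g .u * wprod w) : Twist hb (wcode v) (wcode w) := by
  obtain ⟨x, hx, hx'⟩ := word_spec hb v
  obtain ⟨y, hy, hy'⟩ := word_spec hb w
  exact ⟨x, y, hx, hy, by rw [hx', hy']; exact h⟩

theorem comm_of_rel {x y : Cfsg.Spor.Th} (h : y⁻¹ * x⁻¹ * y * x = 1) : x * y = y * x := by
  have e : x * y * (y⁻¹ * x⁻¹ * y * x) = y * x := by group
  rw [h, mul_one] at e
  exact e

theorem twist_a (hb : BoundHyp) : Twist hb (wcode [0]) (wcode [0]) := by
  refine twist_of_words hb ?_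
  have h := comm_of_rel (x := pa) (y := pu) (by simpa [Th.extra] using relv 28 (by decide))
  simpa [wprod, lgen] using h

theorem twist_c (hb : BoundHyp) : Twist hb (wcode [2]) (wcode [2]) := by
  refine twist_of_words hb ?_
  have h := comm_of_rel (x := pc) (y := pu) (by simpa [Th.extra] using relv 29 (by decide))
  simpa [wprod, lgen] using h

theorem twist_e (hb : BoundHyp) : Twist hb (wcode [4]) (wcode [4]) := by
  refine twist_of_words hb ?_
  have h := comm_of_rel (x := pe) (y := pu) (by simpa [Th.extra] using relv 30 (by decide))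
  simpa [wprod, lgen] using h

theorem twist_t (hb : BoundHyp) : Twist hb (wcode [6]) (wcode [8]) := by
  refine twist_of_words hb ?_
  have h : pu⁻¹ * pt * pu * pt = 1 := by simpa [Th.extra] using relv 34 (by decide)
  have : pt * pu = pu * pt⁻¹ := by
    have e : pu * (pu⁻¹ * pt * pu * pt) * pt⁻¹ = pt * pu := by group
    rw [h, mul_one] at e
    exact e.symm
  simpa [wprod, lgen] using this

theorem twist_z (hb : BoundHyp) : Twist hb (wcode [1, 0, 2, 1]) (wcode [1, 0, 2, 1, 4]) := by
  refine twist_of_words hb ?_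
  have hbi : pb⁻¹ = pb := inv_of_sq (by simpa [Th.extra, pow_two] using relv 1 (by decide))
  have hzz := z_sq hb
  set z := wprod [1, 0, 2, 1] with hz
  have hzi : z⁻¹ = z := inv_of_sq hzz
  have hz' : pb⁻¹ * (pa * pc) * pb = z := by
    rw [hz, z_word, hbi]
    simp only [mul_assoc]
  have h := relv 32 (by decide)
  simp only [Th.extra, List.getElem_cons_succ, List.getElem_cons_zero, map_mul, map_inv] at h
  rw [hz', hzi, mul_inv_eq_one] at h
  have e : wprod [1, 0, 2, 1, 4] = z * pe := by
    rw [hz]; simp [wprod, lgen, mul_assoc]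
  rw [e]
  show z * pu = pu * (z * pe)
  have e2 : pu * (z * (pu⁻¹ * z * pu * z)⁻¹⁻¹) = pu * (z * pe) := by rw [inv_inv, h]
  rw [← e2, inv_inv]
  have hp : pu⁻¹ * z * pu * z = pe := h
  have key : (pu⁻¹ * z * pu) * z = z * (pu⁻¹ * z * pu) := by
    have hee : pe * pe = 1 := by simpa [Th.extra, pow_two] using relv 4 (by decide)
    have hsq : (pu⁻¹ * z * pu) * (pu⁻¹ * z * pu) = 1 := by
      calc (pu⁻¹ * z * pu) * (pu⁻¹ * z * pu) = pu⁻¹ * (z * z) * pu := by group
        _ = 1 := by rw [hzz]; group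
    calc (pu⁻¹ * z * pu) * z = pe := hp
      _ = pe⁻¹ := (inv_of_sq hee).symm
      _ = (pu⁻¹ * z * pu * z)⁻¹ := by rw [hp]
      _ = z⁻¹ * (pu⁻¹ * z * pu)⁻¹ := by group
      _ = z * (pu⁻¹ * z * pu) := by rw [hzi, inv_of_sq hsq]
  rw [key, ← mul_assoc z z, hzz, one_mul]
  group

theorem twist_sses (hb : BoundHyp) :
    Twist hb (wcode [5, 5, 4, 7, 7]) (wcode [5, 5, 4, 7, 7]) := by
  refine twist_of_words hb ?_
  have h := relv 35 (by decide)
  simp only [Th.extra, List.getElem_cons_succ, List.getElem_cons_zero, map_mul, map_inv,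
    map_pow] at h
  have h' := comm_of_rel (x := (ps ^ 2)⁻¹ * pu * ps ^ 2) (y := pe) h
  have e := congrArg (fun z => ps ^ 2 * z * (ps ^ 2)⁻¹) h'
  have w : wprod [5, 5, 4, 7, 7] = ps ^ 2 * pe * (ps ^ 2)⁻¹ := by
    simp [wprod, lgen, pow_two, mul_assoc]
  rw [w]
  show _ * pu = pu * _
  calc ps ^ 2 * pe * (ps ^ 2)⁻¹ * pu
      = ps ^ 2 * (pe * ((ps ^ 2)⁻¹ * pu * ps ^ 2)) * (ps ^ 2)⁻¹ := by group
    _ = ps ^ 2 * ((ps ^ 2)⁻¹ * pu * ps ^ 2 * pe) * (ps ^ 2)⁻¹ := e.symm
    _ = pu * (ps ^ 2 * pe * (ps ^ 2)⁻¹) := by group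

end CfsgLib.ThIndex62
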