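import Cfsg.Agent.ThIndex62.Words
import Cfsg.Agent.ThIndex62.Data.CertData
import Cfsg.Agent.ThIndex62.Data.Cim

/-!
The coded operations of the index certificate of the Thompson group.
-/

set_option autoImplicit false
set_option maxRecDepth 100000

namespace CfsgLib.ThIndex62

open CfsgLib.ThModel83

/-- the coded operations -/
noncomputable def theCode : DCert22.Code := fastCode Data.hlist (cimF Data.clvls)

/-- the number of points -/
def npts : ℕ := 17199

/-- the live nodes -/
def live : List ℕ := [0, 1, 2, 3, 4, 5, 6, 7, 8, 9, 10]

/-- the base point -/
def xBase : ℕ := 0xfee02836a36a05a16f8091da10001b7c36a36a0a4edd036a3740da8da8293b740da8dd0293b6a0001b7c293b6a0a4eda82020140808050202014080802820200a08080280006c00001b000006c00001b00000000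

theorem xBase_lt : xBase < 2 ^ 676 := by decide +kernel

/-- the base point as a matrix -/
def xMat : Mat := ⟨xBase, xBase_lt⟩

theorem hlist_valid : Data.hlist.all validCode = true := by decide +kernel

end CfsgLib.ThIndex62
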