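import Cfsg.Agent.ThIndex62.Closure

/-!
Stabiliser chains over an arbitrary subgroup, and the relators of the presentation as normal forms.
-/

set_option autoImplicit false

namespace CfsgLib.ThIndex62

open CfsgLib.ThModel83

/-- generators of the next level -/
noncomputable def gsrcOK (L : Lvl) : List (ℕ × ℕ × ℕ) → List ℕ → Bool
  | [], [] => true
  | (x, j, y) :: s, g :: gs =>
    (match L.tbl.find x, L.gens[j]?, L.tbl.find y with
      | some ex, some gj, some ey => Nat.beq g (cmul (cmul ex.v gj) (cinv ey.v))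
      | _, _, _ => false) && gsrcOK L s gs
  | _, _ => false

theorem gsrcOK_inR {S : Subgroup Matˣ} {L : Lvl} (hL : lvlOK L = true)
    (hg : ∀ g ∈ L.gens, InR S g) :
    ∀ (s : List (ℕ × ℕ × ℕ)) (gs : List ℕ), gsrcOK L s gs = true → ∀ g ∈ gs, InR S g
  | [], [], _, g, hgm => by simp at hgm
  | [], _ :: _, h, _, _ => by simp [gsrcOK] at h
  | _ :: _, [], h, _, _ => by simp [gsrcOK] at h
  | (x, j, y) :: s, g' :: gs, h, g, hgm => by
    rw [gsrcOK, Bool.and_eq_true] at h
    rcases List.mem_cons.1 hgm with rfl | hgm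
    · obtain ⟨h1, -⟩ := h
      split at h1
      · rename_i ex gj ey hx hj hy
        rw [Nat.eq_of_beq_eq_true h1]
        exact ((ent_inR hL hg ex (Tbl.find_mem _ _ _ hx)).mul
          (hg gj (List.mem_of_getElem? hj))).mul (ent_inR hL hg ey (Tbl.find_mem _ _ _ hy)).inv
      · simp at h1
    · exact gsrcOK_inR hL hg s gs h.2 g hgm

/-- all checks of a chain -/
noncomputable def chainB : List ℕ → List Lvl → List (List (ℕ × ℕ × ℕ)) → Bool
  | _, [], _ => true
  | bs, L :: Ls, ss => lvlOK L && keysOK L && fixOK bs L && Nat.blt L.b 67108864 &&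
      (match Ls, ss with
        | [], _ => true
        | M :: _, s :: _ => gsrcOK L s M.gens
        | _ :: _, [] => false) && chainB (L.b :: bs) Ls ss.tail

theorem chainB_spec {S : Subgroup Matˣ} : ∀ (bs : List ℕ) (Ls : List Lvl)
    (ss : List (List (ℕ × ℕ × ℕ))), chainB bs Ls ss = true →
    (∀ L ∈ Ls.head?, ∀ g ∈ L.gens, InR S g) →
    ChainOK S bs Ls ∧ ∀ L ∈ Ls, keysOK L = true
  | _, [], _, _, _ => ⟨trivial, by simp⟩
  | bs, L :: Ls, ss, h, hg => by
    simp only [chainB, Bool.and_eq_true] at h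
    obtain ⟨⟨⟨⟨⟨h1, h2⟩, h3⟩, h4⟩, h5⟩, h6⟩ := h
    have hg0 : ∀ g ∈ L.gens, InR S g := hg L (by simp)
    obtain ⟨h7, h8⟩ := chainB_spec (L.b :: bs) Ls ss.tail h6 (fun M hM => by
      cases Ls with
      | nil => simp at hM
      | cons M' Ls' =>
        simp only [List.head?_cons, Option.mem_def, Option.some.injEq] at hM
        subst hM
        cases ss with
        | nil => simp at h5
        | cons s ss' => exact gsrcOK_inR h1 hg0 s _ h5)
    refine ⟨⟨h1, h3, ?_, hg0, h7⟩, fun M hM => ?_⟩
    · have : L.b < 67108864 := by simpa [Nat.blt, Nat.ble_eq] using h4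
      simpa using this
    · rcases List.mem_cons.1 hM with rfl | hM
      · exact h2
      · exact h8 M hM

theorem chainB_card {S : Subgroup Matˣ} [Finite S] {Ls : List Lvl}
    {ss : List (List (ℕ × ℕ × ℕ))} (h : chainB [] Ls ss = true)
    (hg : ∀ L ∈ Ls.head?, ∀ g ∈ L.gens, InR S g) : chainSize Ls ≤ Nat.card S :=
  (chain_card Ls [] (chainB_spec [] Ls ss h hg).1 (chainB_spec [] Ls ss h hg).2).trans
    (Nat.card_le_card_of_injective _ (Subgroup.inclusion_injective inf_le_left))


/-- a fact says that a code fixes a node -/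
noncomputable def fixFactOK (D : DCert22.Cert) (n a : ℕ) : List ℕ → List ℕ → Bool
  | [], [] => true
  | i :: is, g :: gs => Nat.blt i n &&
    (match D.facts.get i with
      | some F => !F.e && Nat.beq F.a a && Nat.beq F.b a && Nat.beq F.y cone && Nat.beq F.x g
      | none => false) && fixFactOK D n a is gs
  | _, _ => false

theorem card_stab_ge {hb : BoundHyp} {l : List ℕ} {hl : l.all validCode = true}
    {cim : ℕ → Option ℕ} {hcim : CimSpec hb cim} {L : Subgroup Cfsg.Spor.Th} {D : DCert22.Cert}
    {n a : ℕ} (hA : DCert22.AllHold (fastModel hb l hl cim hcim) L D n) {is : List ℕ}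
    {Ls : List Lvl} {ss : List (List (ℕ × ℕ × ℕ))} (h : chainB [] Ls ss = true)
    (hf : ∀ K ∈ Ls.head?, fixFactOK D n a is K.gens = true) :
    chainSize Ls ≤ Nat.card (DCert22.stab (fastModel hb l hl cim hcim) L D a) := by
  haveI := finite_R hb
  set T := DCert22.stab (fastModel hb l hl cim hcim) L D a with hT
  have key : ∀ (is gs : List ℕ), fixFactOK D n a is gs = true →
      ∀ g ∈ gs, InR (T.map R.subtype) g := by
    intro is gs
    induction gs generalizing is with
    | nil => simp
    | cons g gs ih =>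
      intro hk g' hg'
      cases is with
      | nil => simp [fixFactOK] at hk
      | cons i is =>
        simp only [fixFactOK, Bool.and_eq_true] at hk
        obtain ⟨⟨hi, hk⟩, hrest⟩ := hk
        rcases List.mem_cons.1 hg' with rfl | hg'
        swap; · exact ih is hrest g' hg'
        split at hk
        swap; · simp at hk
        rename_i F hF
        simp only [Bool.and_eq_true, Bool.not_eq_true'] at hk
        obtain ⟨⟨⟨⟨he, ha⟩, hb'⟩, hy⟩, hx⟩ := hk
        obtain ⟨⟨k, hk'⟩, -, hr⟩ := hA i (by simpa [Nat.blt, Nat.ble_eq] using hi) F hF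
        refine ⟨k.1, Subgroup.mem_map_of_mem R.subtype ?_, hk'.trans (Nat.eq_of_beq_eq_true hx)⟩
        show DCert22.Rel L _ _
        have e1 : (fastModel hb l hl cim hcim).val ((fastModel hb l hl cim hcim).enc k) =
            hom hb k := (fastModel hb l hl cim hcim).val_enc k
        have e0 : (fastModel hb l hl cim hcim).val cone = 1 :=
          (fastModel hb l hl cim hcim).val_one
        simp only [DCert22.stVal, he, Bool.false_eq_true, if_false, mul_one,
          Nat.eq_of_beq_eq_true ha, Nat.eq_of_beq_eq_true hb', Nat.eq_of_beq_eq_true hy,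
          ← hk', e1] at hr
        rw [e0, mul_one] at hr
        exact hr
  have hfin : Finite (T.map R.subtype) :=
    Finite.of_injective (fun x => (⟨x.1, by
      obtain ⟨y, -, hy⟩ := x.2; exact hy ▸ y.2⟩ : R)) fun x y h => Subtype.ext (congrArg (fun z : R => z.1) h)
  have := chainB_card h fun K hK => key is K.gens (hf K hK)
  rwa [Subgroup.card_map_of_injective R.subtype_injective] at this

theorem cimSpec_none (hb : BoundHyp) : CimSpec hb (fun _ => none) := by
  intro c d h; simp at h

/-- the model without a rule for `u` -/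
noncomputable abbrev wModel (hb : BoundHyp) :
    DCert22.Model (code fun _ => none) Cfsg.Spor.Th R := model hb _ (cimSpec_none hb)

/-- value of a normal form -/
noncomputable def nfVal (hb : BoundHyp) : ℕ × List ℕ → Cfsg.Spor.Th := fun w =>
  (wModel hb).wordVal w

/-- multiply on the right -/
noncomputable def mulLast : ℕ × List ℕ → ℕ → ℕ × List ℕ
  | (h, []), x => (cmul h x, [])
  | (h, h1 :: t), x => (h, (mulLast (h1, t) x).1 :: (mulLast (h1, t) x).2)

/-- rotation past one `u` -/
noncomputable def rotW : ℕ × List ℕ → ℕ × List ℕ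
  | (h, []) => (h, [])
  | (h, h1 :: t) => ((mulLast (h1, t) h).1, (mulLast (h1, t) h).2 ++ [cone])

/-- inverse, using `u⁻¹ = (u²)⁻¹ u` -/
noncomputable def invAux : ℕ → List ℕ → ℕ × List ℕ
  | h, [] => (cinv h, [])
  | h, h1 :: t =>
    let w := mulLast (invAux h1 t) (cinv uCode)
    (w.1, w.2 ++ [cinv h])

/-- all rotations -/
noncomputable def rotations : ℕ → ℕ × List ℕ → List (ℕ × List ℕ)
  | 0, w => [w]
  | k + 1, w => w :: rotations k (rotW w)

/-- the rotations of a word and of its inverse -/
noncomputable def allForms (w : ℕ × List ℕ) : List (ℕ × List ℕ) :=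
  rotations w.2.length w ++ rotations w.2.length (invAux w.1 w.2)

section
variable {C : DCert22.Code} {G Hg : Type*} [Group G] [Group Hg] (M : DCert22.Model C G Hg)

theorem prod_append_one (l : List ℕ) (x : ℕ) :
    ((l ++ [x]).map fun y => M.t * M.val y).prod =
      (l.map fun y => M.t * M.val y).prod * (M.t * M.val x) := by simp
end

section
variable (hb : BoundHyp)


theorem ok_mulLast : ∀ (h : ℕ) (t : List ℕ) (x : ℕ), (wModel hb).Ok h → (∀ y ∈ t, (wModel hb).Ok y) →
    (wModel hb).Ok x → ((wModel hb).Ok (mulLast (h, t) x).1 ∧ ∀ y ∈ (mulLast (h, t) x).2, (wModel hb).Ok y) ∧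
      nfVal hb (mulLast (h, t) x) = nfVal hb (h, t) * (wModel hb).val x
  | h, [], x, hh, _, hx => by
    refine ⟨⟨by simp only [mulLast]; exact (wModel hb).ok_mul hh hx, by simp [mulLast]⟩, ?_⟩
    simp only [nfVal, mulLast, DCert22.Model.wordVal, List.map_nil, List.prod_nil, mul_one]
    exact (wModel hb).val_mul hh hx
  | h, h1 :: t, x, hh, ht, hx => by
    obtain ⟨⟨o1, o2⟩, e⟩ := ok_mulLast h1 t x (ht h1 (by simp))
      (fun y hy => ht y (List.mem_cons_of_mem _ hy)) hx
    refine ⟨⟨by simp only [mulLast]; exact hh, fun y hy => ?_⟩, ?_⟩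
    · simp only [mulLast, List.mem_cons] at hy
      rcases hy with rfl | hy
      · exact o1
      · exact o2 y hy
    · simp only [nfVal, DCert22.Model.wordVal] at e ⊢
      simp only [mulLast, List.map_cons, List.prod_cons, mul_assoc] at e ⊢
      rw [e]

/-- a word of codes equal to one -/
def IsRel (w : ℕ × List ℕ) : Prop :=
  ((wModel hb).Ok w.1 ∧ ∀ y ∈ w.2, (wModel hb).Ok y) ∧ nfVal hb w = 1

theorem isRel_rotW : ∀ w, IsRel hb w → IsRel hb (rotW w)
  | (h, []), hw => hw
  | (h, h1 :: t), ⟨⟨hh, ht⟩, e⟩ => by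
    obtain ⟨⟨o1, o2⟩, e'⟩ := ok_mulLast hb h1 t h (ht h1 (by simp))
      (fun y hy => ht y (List.mem_cons_of_mem _ hy)) hh
    refine ⟨⟨o1, fun y hy => ?_⟩, ?_⟩
    · simp only [rotW, List.mem_append, List.mem_singleton] at hy
      rcases hy with hy | rfl
      · exact o2 y hy
      · exact (wModel hb).ok_one
    · simp only [nfVal, rotW, DCert22.Model.wordVal, prod_append_one, List.map_cons,
        List.prod_cons] at e e' ⊢
      rw [show (wModel hb).val cone = 1 from (wModel hb).val_one, mul_one, ← mul_assoc, e']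
      rw [mul_eq_one_iff_eq_inv] at e
      rw [e]
      group

theorem isRel_rotations : ∀ k w, IsRel hb w → ∀ v ∈ rotations k w, IsRel hb v
  | 0, w, hw, v, hv => by simp only [rotations, List.mem_singleton] at hv; exact hv ▸ hw
  | k + 1, w, hw, v, hv => by
    simp only [rotations, List.mem_cons] at hv
    rcases hv with rfl | hv
    · exact hw
    · exact isRel_rotations k _ (isRel_rotW hb w hw) v hv

theorem invAux_spec : ∀ (h : ℕ) (t : List ℕ), (wModel hb).Ok h → (∀ y ∈ t, (wModel hb).Ok y) →
    ((wModel hb).Ok (invAux h t).1 ∧ ∀ y ∈ (invAux h t).2, (wModel hb).Ok y) ∧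
      nfVal hb (invAux h t) = (nfVal hb (h, t))⁻¹
  | h, [], hh, _ => by
    refine ⟨⟨(wModel hb).ok_inv hh, by simp [invAux]⟩, ?_⟩
    simp only [nfVal, invAux, DCert22.Model.wordVal, List.map_nil, List.prod_nil, mul_one]
    exact (wModel hb).val_inv hh
  | h, h1 :: t, hh, ht => by
    obtain ⟨⟨o1, o2⟩, e⟩ := invAux_spec h1 t (ht h1 (by simp))
      fun y hy => ht y (List.mem_cons_of_mem _ hy)
    have hu : (wModel hb).Ok (cinv uCode) := (wModel hb).ok_inv (wModel hb).ok_u
    obtain ⟨⟨o3, o4⟩, e'⟩ := ok_mulLast hb (invAux h1 t).1 (invAux h1 t).2 (cinv uCode) o1 o2 hu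
    refine ⟨⟨o3, fun y hy => ?_⟩, ?_⟩
    · simp only [invAux, List.mem_append, List.mem_singleton] at hy
      rcases hy with hy | rfl
      · exact o4 y hy
      · exact (wModel hb).ok_inv hh
    · simp only [Prod.mk.eta] at e'
      simp only [nfVal, invAux, DCert22.Model.wordVal, prod_append_one, List.map_cons,
        List.prod_cons] at e e' ⊢
      rw [← mul_assoc, e', e]
      have ht : (wModel hb).val (cinv uCode) * (wModel hb).t = (wModel hb).t⁻¹ := ((wModel hb).t_inv).symm
      have hv : (wModel hb).val (cinv h) = ((wModel hb).val h)⁻¹ := (wModel hb).val_inv hh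
      rw [hv]
      rw [mul_assoc, ← mul_assoc ((wModel hb).val (cinv uCode)), ht]
      group

theorem isRel_allForms (w : ℕ × List ℕ) (hw : IsRel hb w) : ∀ v ∈ allForms w, IsRel hb v := by
  intro v hv
  rcases List.mem_append.1 hv with hv | hv
  · exact isRel_rotations hb _ w hw v hv
  · obtain ⟨o, e⟩ := invAux_spec hb w.1 w.2 hw.1.1 hw.1.2
    refine isRel_rotations hb _ _ ⟨o, ?_⟩ v hv
    rw [e, show nfVal hb (w.1, w.2) = 1 from hw.2, inv_one]

end

end CfsgLib.ThIndex62
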